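import Groth.Prelude.Def_EGA4Misc
import Mathlib

/-!
Radicial at a point: criterion by field-valued points, composition, base change (EGA IV 15.2).
-/

set_option autoImplicit false
set_option linter.style.haveILetI false

universe u

open CategoryTheory CategoryTheory.Limits AlgebraicGeometry IsLocalRing

namespace Groth.Agent.H06RadPt

variable {X Y : Scheme.{u}}

/-- The `K`-point lies over `y`. -/
def PtAt (y : Y) (K : Type u) [Field K] (σ : Spec (CommRingCat.of K) ⟶ Y) : Prop :=
  σ (closedPoint K) = y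

lemma eq_closedPoint {K : Type u} [Field K] (p : ↥(Spec (CommRingCat.of K))) : p = closedPoint K :=
  Subsingleton.elim _ _

set_option backward.isDefEq.respectTransparency.types false in
set_option backward.defeqAttrib.useBackward true in
theorem isRadicialAt_iff (f : X ⟶ Y) (y : Y) :
    RadPt.IsRadicialAt f y ↔ ∀ (K : Type u) [Field K] (g₁ g₂ : Spec (CommRingCat.of K) ⟶ X),
      g₁ ≫ f = g₂ ≫ f → f (g₁ (closedPoint K)) = y → g₁ = g₂ := by
  constructor
  · intro ⟨h_inj, hf⟩ K _ g₁ g₂ hg hy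
    obtain ⟨e, h⟩ := Scheme.SpecToEquivOfField_eq_iff.mp congr((Y.SpecToEquivOfField K) $(hg))
    apply (X.SpecToEquivOfField K).injective
    dsimp at e h
    simp only [Scheme.descResidueField_stalkClosedPointTo_comp] at e h
    have hinj' : g₁ (closedPoint K) = g₂ (closedPoint K) := h_inj _ _ hy (e.symm.trans hy)
    rw [← f.residueFieldMap_congr'_assoc hinj', CommRingCat.hom_ext_iff] at h
    rw [Scheme.SpecToEquivOfField_eq_iff]
    have hfx := hf (g₁ (closedPoint K)) hy
    algebraize [(f.residueFieldMap (g₁ (closedPoint K))).hom]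
    refine ⟨hinj', CommRingCat.hom_ext ?_⟩
    exact IsPurelyInseparable.injective_comp_algebraMap
      (Y.residueField (f (g₁ (closedPoint K)))) (X.residueField (g₁ (closedPoint K))) _ h
  · intro H
    refine ⟨fun x x' hx hx' => ?_, fun x hx => ?_⟩
    · obtain ⟨z, hz₁, hz₂⟩ := Scheme.Pullback.exists_preimage_pullback (f := f) (g := f) x x'
        (hx.trans hx'.symm)
      let φ := (pullback f f).fromSpecResidueField z
      have hφ : φ (closedPoint ((pullback f f).residueField z)) = z :=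
        Scheme.fromSpecResidueField_apply _ _
      have h₁ : (φ ≫ pullback.fst f f) (closedPoint _) = x := by
        rw [Scheme.Hom.comp_apply, hφ, hz₁]
      have heq := H ((pullback f f).residueField z) (φ ≫ pullback.fst f f) (φ ≫ pullback.snd f f)
        (by simp [pullback.condition]) (by rw [h₁]; exact hx)
      calc x = (φ ≫ pullback.fst f f) (closedPoint _) := h₁.symm
        _ = (φ ≫ pullback.snd f f) (closedPoint _) := congr($(heq) (closedPoint _))
        _ = x' := by rw [Scheme.Hom.comp_apply, hφ, hz₂]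
    · algebraize [(f.residueFieldMap x).hom]
      rw [RingHom.IsPurelyInseparable, isPurelyInseparable_iff_subsingleton_emb, subsingleton_iff]
      intro σ₁ σ₂
      apply AlgHom.coe_ringHom_injective
      let g₁ := (X.SpecToEquivOfField _).symm ⟨_, CommRingCat.ofHom σ₁.toRingHom⟩
      let g₂ := (X.SpecToEquivOfField _).symm ⟨_, CommRingCat.ofHom σ₂.toRingHom⟩
      suffices X.SpecToEquivOfField _ g₁ = X.SpecToEquivOfField _ g₂ by
        rw [Equiv.apply_symm_apply, Equiv.apply_symm_apply] at this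
        exact congr($(this).2.hom)
      congr 1
      refine H _ g₁ g₂ ?_ ?_
      · simp only [g₁, g₂, Scheme.SpecToEquivOfField_symm_apply, AlgHom.toRingHom_eq_coe,
          Category.assoc, ← f.SpecMap_residueFieldMap_fromSpecResidueField x, ← Spec.map_comp_assoc]
        congr 2
        ext a
        simp only [CommRingCat.hom_comp, RingHom.comp_apply]
        exact (AlgHom.commutes σ₁ a).trans (AlgHom.commutes σ₂ a).symm
      · have : g₁ (closedPoint _) = x := by
          simp only [g₁, Scheme.SpecToEquivOfField_symm_apply, Scheme.Hom.comp_apply]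
          exact Scheme.fromSpecResidueField_apply _ _
        rw [this, hx]

/-- A `K`-point of `Y` lifts along `h` through any prescribed preimage of its support,
after a field extension. -/
theorem exists_lift {Y' : Scheme.{u}} (h : Y' ⟶ Y) {K : Type u} [Field K]
    (σ : Spec (CommRingCat.of K) ⟶ Y) (y' : Y') (hy' : h y' = σ (closedPoint K)) :
    ∃ (L : Type u) (_ : Field L) (s : Spec (CommRingCat.of L) ⟶ Spec (CommRingCat.of K))
      (σ' : Spec (CommRingCat.of L) ⟶ Y'), σ' ≫ h = s ≫ σ ∧ σ' (closedPoint L) = y' ∧ Epi s := by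
  obtain ⟨z, hz₁, hz₂⟩ := Scheme.Pullback.exists_preimage_pullback (f := σ) (g := h)
    (closedPoint K) y' hy'.symm
  let φ := (pullback σ h).fromSpecResidueField z
  refine ⟨(pullback σ h).residueField z, inferInstance, φ ≫ pullback.fst σ h, φ ≫ pullback.snd σ h,
    by simp [pullback.condition], ?_, ?_⟩
  · rw [Scheme.Hom.comp_apply, Scheme.fromSpecResidueField_apply, hz₂]
  · obtain ⟨g, hg⟩ : ∃ g, (φ ≫ pullback.fst σ h) = Spec.map g := ⟨_, (Spec.map_preimage _).symm⟩
    have : Surjective (φ ≫ pullback.fst σ h) :=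
      ⟨fun p => ⟨closedPoint _, Subsingleton.elim _ _⟩⟩
    have : Flat (φ ≫ pullback.fst σ h) := by
      rw [hg, HasRingHomProperty.Spec_iff (P := @Flat)]
      algebraize [g.hom]
      exact RingHom.flat_algebraMap_iff.2 inferInstance
    exact Flat.epi_of_flat_of_surjective _

theorem comp {Z : Scheme.{u}} (f : X ⟶ Y) (g : Y ⟶ Z) (y : Y) (hf : RadPt.IsRadicialAt f y)
    (hg : RadPt.IsRadicialAt g (g y)) : RadPt.IsRadicialAt (f ≫ g) (g y) := by
  rw [isRadicialAt_iff]
  intro K _ g₁ g₂ he hy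
  have hy1 : g ((g₁ ≫ f) (closedPoint K)) = g y := by
    rw [Scheme.Hom.comp_apply]; rw [Scheme.Hom.comp_apply] at hy; exact hy
  have h1 := (isRadicialAt_iff g (g y)).1 hg K (g₁ ≫ f) (g₂ ≫ f) (by simpa using he) hy1
  refine (isRadicialAt_iff f y).1 hf K g₁ g₂ h1 ?_
  have := hg.1 _ _ hy1 rfl
  rwa [Scheme.Hom.comp_apply] at this

theorem of_comp {Z : Scheme.{u}} (f : X ⟶ Y) (g : Y ⟶ Z) (y : Y)
    (h : RadPt.IsRadicialAt (f ≫ g) (g y)) : RadPt.IsRadicialAt f y := by
  rw [isRadicialAt_iff] at h ⊢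
  intro K _ g₁ g₂ he hy
  exact h K g₁ g₂ (by simp [reassoc_of% he]) (by rw [Scheme.Hom.comp_apply, hy])

theorem of_comp_surjective {Z : Scheme.{u}} (f : X ⟶ Y) [Surjective f] (g : Y ⟶ Z) (z : Z)
    (h : RadPt.IsRadicialAt (f ≫ g) z) : RadPt.IsRadicialAt g z := by
  rw [isRadicialAt_iff] at h ⊢
  intro K _ y₁ y₂ he hy
  obtain ⟨x₁, hx₁⟩ := f.surjective (y₁ (closedPoint K))
  obtain ⟨L, _, s, a₁, ha₁, -, hs⟩ := exists_lift f y₁ x₁ hx₁
  obtain ⟨x₂, hx₂⟩ := f.surjective ((s ≫ y₂) (closedPoint L))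
  obtain ⟨L', _, t, a₂, ha₂, -, ht⟩ := exists_lift f (s ≫ y₂) x₂ hx₂
  have key : t ≫ a₁ = a₂ := by
    refine h L' _ _ ?_ ?_
    · simp [reassoc_of% ha₂, reassoc_of% ha₁, he]
    · rw [← Scheme.Hom.comp_apply, Category.assoc, ← Category.assoc a₁, ha₁]
      simp only [Scheme.Hom.comp_apply]
      rw [eq_closedPoint (s (t (closedPoint L')))]
      exact hy
  rw [← cancel_epi s, ← cancel_epi t, ← ha₁, ← ha₂, ← key, Category.assoc]

theorem iff_of_isPullback {X' Y' : Scheme.{u}} {f : X ⟶ Y} {h : Y' ⟶ Y} {f' : X' ⟶ Y'}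
    {h' : X' ⟶ X} (sq : IsPullback h' f' f h) (y' : Y') :
    RadPt.IsRadicialAt f (h y') ↔ RadPt.IsRadicialAt f' y' := by
  rw [isRadicialAt_iff, isRadicialAt_iff]
  constructor
  · intro H K _ g₁ g₂ he hy
    refine sq.hom_ext (H K (g₁ ≫ h') (g₂ ≫ h') ?_ ?_) he
    · simp [sq.w, reassoc_of% he]
    · rw [← Scheme.Hom.comp_apply, Category.assoc, sq.w, Scheme.Hom.comp_apply,
        Scheme.Hom.comp_apply, hy]
  · intro H K _ x₁ x₂ he hy
    obtain ⟨L, _, s, σ', hσ, hσy, hs⟩ := exists_lift h (x₁ ≫ f) y'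
      (by rw [Scheme.Hom.comp_apply]; exact hy.symm)
    let a₁ := sq.lift (s ≫ x₁) σ' (by rw [Category.assoc]; exact hσ.symm)
    let a₂ := sq.lift (s ≫ x₂) σ' (by rw [Category.assoc, ← he]; exact hσ.symm)
    have key : a₁ = a₂ := H L a₁ a₂ (by simp [a₁, a₂])
      (by rw [← Scheme.Hom.comp_apply, sq.lift_snd, hσy])
    rw [← cancel_epi s]
    have := congrArg (· ≫ h') key
    simpa [a₁, a₂] using this

end Groth.Agent.H06RadPt
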