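import Groth.Prelude.Def_EGA4Misc
import Groth.Agent.H17.Fibre
import Mathlib

/-!
# Birational morphisms are stable under flat base change
-/

set_option autoImplicit false
set_option linter.style.haveILetI false
set_option backward.isDefEq.respectTransparency false
universe u

open CategoryTheory CategoryTheory.Limits AlgebraicGeometry IsLocalRing

namespace Groth.Agent.H06RadPt

theorem mem_genericPoints_of_flat {X Y : Scheme.{u}} (g : X ⟶ Y) [Flat g] {x : X} (hx : x ∈ genericPoints X) :
    g x ∈ genericPoints Y := by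
  rw [H17.mem_genericPoints_iff] at hx ⊢
  intro y hy
  obtain ⟨x₁, hx₁, rfl⟩ := Flat.generalizingMap g hy
  rw [hx x₁ hx₁]

variable {X Y X' Y' : Scheme.{u}} {f : X ⟶ Y} {g : Y' ⟶ Y} {f' : X' ⟶ Y'} {g' : X' ⟶ X}

/-- The section of a cartesian square over a point of trivial fibre. -/
theorem exists_fibre_section (sq : IsPullback g' f' f g) (x : X)
    (hb : Function.Bijective (f.residueFieldMap x).hom) :
    ∃ s : g.fiber (f x) ⟶ X',
      (∀ z, g' (s z) = x) ∧ (∀ z, f' (s z) = g.fiberι (f x) z) ∧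
        ∀ (x'' : X') (_ : g' x'' = x), (∀ z, g.fiberι (f x) z = f' x'' → s z = x'') ∧
          Function.Bijective (f'.residueFieldMap x'').hom := by
  haveI : IsIso (f.residueFieldMap x) := (ConcreteCategory.isIso_iff_bijective _).mpr hb
  let u : Spec (Y.residueField (f x)) ⟶ X := Spec.map (inv (f.residueFieldMap x)) ≫ X.fromSpecResidueField x
  have hu : u ≫ f = Y.fromSpecResidueField (f x) := by
    rw [Category.assoc, ← Scheme.Hom.SpecMap_residueFieldMap_fromSpecResidueField, ← Spec.map_comp_assoc,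
      IsIso.hom_inv_id, Spec.map_id, Category.id_comp]
  let s : g.fiber (f x) ⟶ X' := sq.lift (g.fiberToSpecResidueField (f x) ≫ u) (g.fiberι (f x))
    (by rw [Category.assoc, hu]; exact pullback.condition.symm)
  have hs₁ : s ≫ g' = g.fiberToSpecResidueField (f x) ≫ u := sq.lift_fst _ _ _
  have hs₂ : s ≫ f' = g.fiberι (f x) := sq.lift_snd _ _ _
  refine ⟨s, fun z => ?_, fun z => by rw [← Scheme.Hom.comp_apply, hs₂], fun x'' hx'' => ?_⟩
  · rw [← Scheme.Hom.comp_apply, hs₁]
    simp only [u, Scheme.Hom.comp_apply]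
    exact Scheme.fromSpecResidueField_apply x _
  subst hx''
  have hy : g (f' x'') = f (g' x'') := by rw [← Scheme.Hom.comp_apply, ← sq.w, Scheme.Hom.comp_apply]
  let w : Spec (Y'.residueField (f' x'')) ⟶ g.fiber (f (g' x'')) :=
    pullback.lift (Y'.fromSpecResidueField (f' x''))
      (Spec.map ((Y.residueFieldCongr hy.symm).hom ≫ g.residueFieldMap (f' x'')))
      (by rw [← Scheme.Hom.SpecMap_residueFieldMap_fromSpecResidueField, Spec.map_comp_assoc,
        Scheme.residueFieldCongr_fromSpecResidueField])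
  let σ := w ≫ s
  have hc : Spec.map (f'.residueFieldMap x'') ≫ σ = X'.fromSpecResidueField x'' := by
    apply sq.hom_ext
    · simp only [σ, w, Category.assoc, hs₁]
      erw [pullback.lift_snd_assoc]
      rw [← Scheme.Hom.SpecMap_residueFieldMap_fromSpecResidueField g' x'']
      simp only [u, ← Category.assoc]
      congr 1
      rw [← cancel_mono (Spec.map (f.residueFieldMap (g' x'')) ≫ Y.fromSpecResidueField (f (g' x'')))]
      simp only [Category.assoc, ← Spec.map_comp_assoc, IsIso.hom_inv_id, Spec.map_id, Category.id_comp]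
      simp only [Spec.map_comp, Category.assoc, Scheme.residueFieldCongr_fromSpecResidueField,
        Scheme.Hom.SpecMap_residueFieldMap_fromSpecResidueField,
        Scheme.Hom.SpecMap_residueFieldMap_fromSpecResidueField_assoc, sq.w]
    · simp only [σ, w, Category.assoc, hs₂]
      erw [pullback.lift_fst]
      rw [Scheme.Hom.SpecMap_residueFieldMap_fromSpecResidueField]
  refine ⟨fun z hz => ?_, ?_⟩
  · obtain rfl : z = w (closedPoint _) := (g.fiberι _).isEmbedding.injective (hz.trans (by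
      rw [← Scheme.Hom.comp_apply]
      erw [pullback.lift_fst, Scheme.fromSpecResidueField_apply]))
    have h := congrArg (fun m => m.base (closedPoint (X'.residueField x''))) hc
    simp only [σ, Scheme.Hom.comp_apply] at h
    rw [Scheme.fromSpecResidueField_apply] at h
    rw [Subsingleton.elim (α := PrimeSpectrum (Y'.residueField (f' x''))) (closedPoint _)
      (Spec.map (f'.residueFieldMap x'') (closedPoint _))]
    exact h
  · refine ⟨(f'.residueFieldMap x'').hom.injective, ?_⟩
    obtain ⟨⟨x₀, ρ⟩, hρ⟩ : ∃ t, (X'.SpecToEquivOfField (Y'.residueField (f' x''))).symm t = σ :=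
      ⟨_, Equiv.symm_apply_apply _ _⟩
    have hρ' : Spec.map ρ ≫ X'.fromSpecResidueField x₀ = σ := hρ
    have hσf : σ ≫ f' = Y'.fromSpecResidueField (f' x'') := by
      simp only [σ, w, Category.assoc, hs₂]
      erw [pullback.lift_fst]
    have hx₀ : x₀ = x'' := by
      have h1 := congrArg (fun m => m.base (closedPoint (X'.residueField x''))) hc
      have h2 := congrArg (fun m => m.base (Spec.map (f'.residueFieldMap x'') (closedPoint _))) hρ'
      simp only [Scheme.Hom.comp_apply, Scheme.fromSpecResidueField_apply] at h1 h2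
      exact h2.trans h1
    subst hx₀
    have hr : ρ ≫ f'.residueFieldMap x₀ = 𝟙 _ := by
      apply Spec.map_injective
      rw [Spec.map_comp, Spec.map_id, ← cancel_mono (X'.fromSpecResidueField x₀), Category.assoc, hρ', hc,
        Category.id_comp]
    exact fun a => ⟨ρ.hom a, congr($hr a)⟩

/-- Birational morphisms are stable under flat base change. -/
theorem isBirational_of_isPullback [Flat g] (sq : IsPullback g' f' f g) (hf : RadPt.IsBirational f) :
    RadPt.IsBirational f' := by
  haveI : Flat g' := MorphismProperty.of_isPullback sq.flip ‹Flat g›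
  -- the section through the point of `X` above a maximal point
  have key : ∀ y', g y' ∈ genericPoints Y → ∀ x, f x = g y' → ∃ s : g.fiber (f x) ⟶ X',
      (∀ z, g' (s z) = x) ∧ (∀ z, f' (s z) = g.fiberι (f x) z) ∧
        ∀ (x'' : X') (_ : g' x'' = x), (∀ z, g.fiberι (f x) z = f' x'' → s z = x'') ∧
          Function.Bijective (f'.residueFieldMap x'').hom := fun y' hy x hx =>
    exists_fibre_section sq x ((hf.2 _ (hx.symm ▸ hy)).2 x rfl)
  have hw : ∀ x' : X', f (g' x') = g (f' x') := fun x' => by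
    rw [← Scheme.Hom.comp_apply, sq.w, Scheme.Hom.comp_apply]
  have hgy : ∀ {y' : Y'}, g y' ∈ genericPoints Y → ∀ {y₁ : Y'}, y₁ ⤳ y' → g y₁ = g y' := fun hy _ h =>
    H17.mem_genericPoints_iff.mp hy _ (h.map g.continuous)
  refine ⟨⟨fun x' hx' => ?_, fun x₁ h₁ x₂ h₂ e => ?_, fun y' hy' => ?_⟩, fun y' hy' => ⟨fun x₁ x₂ h₁ h₂ => ?_, fun x' hx => ?_⟩⟩
  · have hy : g (f' x') ∈ genericPoints Y := hw x' ▸ hf.1.1 (mem_genericPoints_of_flat g' hx')
    obtain ⟨s, -, hs₂, hs₃⟩ := key _ hy (g' x') (hw x')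
    rw [H17.mem_genericPoints_iff]
    intro y₁ hy₁
    obtain ⟨z₁, rfl⟩ := (g.range_fiberι (f (g' x'))).ge (show g y₁ ∈ ({f (g' x')} : Set Y) from (hgy hy hy₁).trans (hw x').symm)
    obtain ⟨z, hz⟩ := (g.range_fiberι (f (g' x'))).ge (show g (f' x') ∈ ({f (g' x')} : Set Y) from (hw x').symm)
    rw [← hz] at hy₁
    have h := ((g.fiberι _).isEmbedding.isInducing.specializes_iff.mp hy₁).map s.continuous
    rw [(hs₃ x' rfl).1 z hz] at h
    rw [← hs₂ z₁, H17.mem_genericPoints_iff.mp hx' _ h]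
  · have hy : g (f' x₁) ∈ genericPoints Y := hw x₁ ▸ hf.1.1 (mem_genericPoints_of_flat g' h₁)
    obtain ⟨s, -, -, hs₃⟩ := key _ hy (g' x₁) (hw x₁)
    obtain ⟨z, hz⟩ := (g.range_fiberι (f (g' x₁))).ge (show g (f' x₁) ∈ ({f (g' x₁)} : Set Y) from (hw x₁).symm)
    have hg' : g' x₂ = g' x₁ := (hf.2 _ hy).1 _ _ ((hw x₂).trans (congrArg g e.symm)) (hw x₁)
    rw [← (hs₃ x₁ rfl).1 z hz, ← (hs₃ x₂ hg').1 z (hz.trans e)]
  · have hy := mem_genericPoints_of_flat g hy'
    obtain ⟨x, hx, hxy⟩ := hf.1.2.2 hy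
    obtain ⟨s, hs₁, hs₂, hs₃⟩ := key _ hy x hxy
    obtain ⟨z, rfl⟩ := (g.range_fiberι (f x)).ge (show g y' ∈ ({f x} : Set Y) from hxy.symm)
    refine ⟨s z, ?_, hs₂ z⟩
    rw [H17.mem_genericPoints_iff]
    intro x₁ hx₁
    have hgx : g' x₁ = x := H17.mem_genericPoints_iff.mp hx _ (by
      have := hx₁.map g'.continuous
      rwa [hs₁] at this)
    have hfx : f' x₁ = g.fiberι (f x) z := H17.mem_genericPoints_iff.mp hy' _ (by
      have := hx₁.map f'.continuous
      rwa [hs₂] at this)
    exact ((hs₃ x₁ hgx).1 z hfx.symm).symm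
  · have hy := mem_genericPoints_of_flat g hy'
    have hx₁ : f (g' x₁) = g y' := (hw x₁).trans (congrArg g h₁)
    have hx₂ : f (g' x₂) = g y' := (hw x₂).trans (congrArg g h₂)
    obtain ⟨s, -, -, hs₃⟩ := key _ hy (g' x₁) hx₁
    obtain ⟨z, hz⟩ := (g.range_fiberι (f (g' x₁))).ge (show g y' ∈ ({f (g' x₁)} : Set Y) from hx₁.symm)
    rw [← (hs₃ x₁ rfl).1 z (hz.trans h₁.symm), ← (hs₃ x₂ ((hf.2 _ hy).1 _ _ hx₂ hx₁)).1 z (hz.trans h₂.symm)]
  · have hy := mem_genericPoints_of_flat g hy'
    obtain ⟨s, -, -, hs₃⟩ := key _ hy (g' x') ((hw x').trans (congrArg g hx))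
    exact (hs₃ x' rfl).2

end Groth.Agent.H06RadPt
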