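import Groth.Agent.H06RadPt.Sandwich
import Groth.Agent.H17.Fibre
import Groth.Prelude.Def_EGA4Misc

/-!
# Geometrically unibranch points under integral birational morphisms (EGA IV 6.15.5)
-/

set_option autoImplicit false
set_option linter.style.haveILetI false
set_option backward.isDefEq.respectTransparency false
universe u

open CategoryTheory AlgebraicGeometry IsLocalRing

namespace Groth.Agent.H06RadPt

section ring

variable {R T : Type u} [CommRing R] [CommRing T] [Algebra R T]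

theorem comap_mem_minimalPrimes {S : Type u} [CommRing S] [Algebra T S] (N : Submonoid T) [IsLocalization N S]
    {Q : Ideal S} (hQ : Q ∈ minimalPrimes S) : Q.comap (algebraMap T S) ∈ minimalPrimes T := by
  haveI := hQ.1.1
  refine ⟨⟨inferInstance, bot_le⟩, fun P hP hle => ?_⟩
  haveI := hP.1
  have hdis : Disjoint (N : Set T) P := Set.disjoint_left.mpr fun n hn hnP =>
    (Ideal.IsPrime.ne_top (I := Q) inferInstance) (Q.eq_top_of_isUnit_mem (hle hnP) (IsLocalization.map_units S ⟨n, hn⟩))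
  haveI := IsLocalization.isPrime_of_isPrime_disjoint N S P ‹_› hdis
  have h1 : P.map (algebraMap T S) ≤ Q := Ideal.map_le_iff_le_comap.mpr hle
  exact (Ideal.comap_mono (hQ.2 ⟨inferInstance, bot_le⟩ h1)).trans
    (IsLocalization.under_map_of_isPrime_disjoint N S ‹_› hdis).le

theorem map_comap' {S : Type u} [CommRing S] [Algebra T S] (N : Submonoid T) [IsLocalization N S] (Q : Ideal S) :
    (Q.comap (algebraMap T S)).map (algebraMap T S) = Q := IsLocalization.map_comap N S Q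

theorem comap_map' {S : Type u} [CommRing S] [Algebra T S] (N : Submonoid T) [IsLocalization N S] {Q : Ideal T}
    (hQ : Q.IsPrime) (hd : Disjoint (N : Set T) Q) : (Q.map (algebraMap T S)).comap (algebraMap T S) = Q :=
  IsLocalization.under_map_of_isPrime_disjoint N S hQ hd

theorem mem_minimalPrimes_of_comap {S : Type u} [CommRing S] [Algebra T S] (N : Submonoid T) [IsLocalization N S]
    (Q : Ideal S) [Q.IsPrime] (hQ : Q.comap (algebraMap T S) ∈ minimalPrimes T) : Q ∈ minimalPrimes S := by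
  refine ⟨⟨inferInstance, bot_le⟩, fun P hP hle => ?_⟩
  haveI := hP.1
  rw [← map_comap' N P, ← map_comap' N Q]
  exact Ideal.map_mono (hQ.2 ⟨inferInstance, bot_le⟩ (Ideal.comap_mono hle))

/-- Birationality of integral algebras localises. -/
theorem BiratHyp.localization (h : BiratHyp R T) (M : Submonoid R) (A B : Type u) [CommRing A] [CommRing B]
    [Algebra R A] [IsLocalization M A] [Algebra T B] [IsLocalization (Algebra.algebraMapSubmonoid T M) B]
    [Algebra A B] [Algebra R B] [IsScalarTower R A B] [IsScalarTower R T B] : BiratHyp A B := by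
  let N := Algebra.algebraMapSubmonoid T M
  have hcomm : ∀ Q : Ideal B, (Q.comap (algebraMap A B)).comap (algebraMap R A) =
      (Q.comap (algebraMap T B)).comap (algebraMap R T) := fun Q => by
    rw [Ideal.comap_comap, Ideal.comap_comap, ← IsScalarTower.algebraMap_eq, ← IsScalarTower.algebraMap_eq]
  refine ⟨fun Q hQ => ?_, fun Q hQ Q' hQ' e => ?_, fun P hP => ?_, fun Q hQ b => ?_⟩
  · haveI := hQ.1.1
    refine mem_minimalPrimes_of_comap M _ ?_
    rw [hcomm]
    exact h.maps _ (comap_mem_minimalPrimes N hQ)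
  · have e' : Q.comap (algebraMap T B) = Q'.comap (algebraMap T B) :=
      h.inj _ (comap_mem_minimalPrimes N hQ) _ (comap_mem_minimalPrimes N hQ') (by rw [← hcomm, ← hcomm, e])
    rw [← map_comap' N Q, e', map_comap' N Q']
  · haveI := hP.1.1
    obtain ⟨Q₀, hQ₀, hQ₀P⟩ := h.surj _ (comap_mem_minimalPrimes M hP)
    haveI := hQ₀.1.1
    have hdis : Disjoint (N : Set T) Q₀ := Set.disjoint_left.mpr fun n ⟨m, hm, hmn⟩ hnQ => by
      subst hmn
      have h1 : m ∈ (P.comap (algebraMap R A)) := hQ₀P.le hnQ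
      exact (Ideal.IsPrime.ne_top (I := P) inferInstance) (P.eq_top_of_isUnit_mem h1 (IsLocalization.map_units A ⟨m, hm⟩))
    haveI := IsLocalization.isPrime_of_isPrime_disjoint N B Q₀ ‹_› hdis
    have hc := comap_map' (S := B) N ‹Q₀.IsPrime› hdis
    refine ⟨Q₀.map (algebraMap T B), mem_minimalPrimes_of_comap N _ (hc.symm ▸ hQ₀), ?_⟩
    rw [← map_comap' M P, ← map_comap' M ((Q₀.map (algebraMap T B)).comap (algebraMap A B)),
      hcomm]
    exact congrArg (Ideal.map (algebraMap R A)) ((congrArg (Ideal.comap (algebraMap R T)) hc).trans hQ₀P)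
  · haveI := hQ.1.1
    obtain ⟨⟨t, ⟨_, m, hm, rfl⟩⟩, hbt⟩ := IsLocalization.surj N b
    obtain ⟨a, s, hs, hsa⟩ := h.frac _ (comap_mem_minimalPrimes N hQ) t
    refine ⟨algebraMap R A a, algebraMap R A (s * m), fun hmem => ?_, ?_⟩
    · have h1 : s * m ∈ (Q.comap (algebraMap T B)).comap (algebraMap R T) := (hcomm Q).le hmem
      haveI : ((Q.comap (algebraMap T B)).comap (algebraMap R T)).IsPrime := inferInstance
      rcases Ideal.IsPrime.mem_or_mem ‹((Q.comap (algebraMap T B)).comap (algebraMap R T)).IsPrime› h1 with h1 | h1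
      · exact hs h1
      · exact (Ideal.IsPrime.ne_top (I := Q) inferInstance) (Q.eq_top_of_isUnit_mem (x := algebraMap T B (algebraMap R T m)) h1
          (IsLocalization.map_units B (⟨_, m, hm, rfl⟩ : N)))
    · rw [← IsScalarTower.algebraMap_apply, ← IsScalarTower.algebraMap_apply, map_mul,
        IsScalarTower.algebraMap_apply R T B, IsScalarTower.algebraMap_apply R T B,
        IsScalarTower.algebraMap_apply R T B, mul_assoc, mul_comm (algebraMap T B (algebraMap R T m)) b]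
      have h2 : algebraMap T B (algebraMap R T s * t - algebraMap R T a) ∈ Q := hsa
      rw [map_sub, map_mul] at h2
      rw [hbt]
      exact h2

end ring

theorem isLocalHom_of_isIntegral {A B : Type u} [CommRing A] [CommRing B] [Algebra A B] [Algebra.IsIntegral A B]
    [IsLocalRing A] [IsLocalRing B] : IsLocalHom (algebraMap A B) := by
  refine ⟨fun a ha => by_contra fun hna => ?_⟩
  have h1 : ((maximalIdeal B).comap (algebraMap A B)).IsMaximal :=
    Ideal.isMaximal_comap_of_isIntegral_of_isMaximal _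
  have h2 : a ∈ (maximalIdeal B).comap (algebraMap A B) := by
    rw [IsLocalRing.eq_maximalIdeal h1]; exact hna
  exact h2 ha

variable {X Y : Scheme.{u}} {f : X ⟶ Y}

theorem mem_genericPoints_fromSpec_iff {U : X.Opens} (hU : IsAffineOpen U) (q : PrimeSpectrum Γ(X, U)) :
    hU.fromSpec q ∈ genericPoints X ↔ q.asIdeal ∈ minimalPrimes Γ(X, U) := by
  rw [H17.mem_genericPoints_iff]
  constructor
  · intro h
    refine ⟨⟨q.2, bot_le⟩, fun P hP hle => ?_⟩
    let z : PrimeSpectrum Γ(X, U) := ⟨P, hP.1⟩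
    have := hU.fromSpec.isOpenEmbedding.injective
      (h (hU.fromSpec z) (((PrimeSpectrum.le_iff_specializes z q).mp hle).map hU.fromSpec.continuous))
    exact (congrArg PrimeSpectrum.asIdeal this).ge
  · intro h z hz
    obtain ⟨z, rfl⟩ : z ∈ Set.range hU.fromSpec := hz.mem_open hU.fromSpec.isOpenEmbedding.isOpen_range ⟨q, rfl⟩
    have hle : z.asIdeal ≤ q.asIdeal := (PrimeSpectrum.le_iff_specializes (z : PrimeSpectrum Γ(X, U)) q).mpr
      (hU.fromSpec.isOpenEmbedding.isInducing.specializes_iff.mp hz)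
    exact congrArg _ (PrimeSpectrum.ext (le_antisymm hle (h.2 ⟨z.2, bot_le⟩ hle)))

variable {U : X.Opens} {V : Y.Opens}

/-- The stalk map in affine charts. -/
theorem exists_stalk_square (hV : IsAffineOpen V) (hU : IsAffineOpen U) (e : U ≤ f ⁻¹ᵁ V) (q : PrimeSpectrum Γ(X, U))
    [((q.asIdeal).comap (f.appLE V U e).hom).IsPrime] :
    ∃ (eY : Y.presheaf.stalk (f (hU.fromSpec q)) ≃+* Localization.AtPrime (q.asIdeal.comap (f.appLE V U e).hom))
      (eX : X.presheaf.stalk (hU.fromSpec q) ≃+* Localization.AtPrime q.asIdeal),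
      ∀ a, eX ((f.stalkMap (hU.fromSpec q)).hom a) =
        Localization.localRingHom _ q.asIdeal (f.appLE V U e).hom rfl (eY a) := by
  have hx : hU.fromSpec q ∈ U := hU.range_fromSpec.le ⟨q, rfl⟩
  have hq : (hU.primeIdealOf ⟨hU.fromSpec q, hx⟩) = q :=
    hU.fromSpec.isOpenEmbedding.injective (hU.fromSpec_primeIdealOf _)
  suffices key : ∀ (q' : Ideal Γ(X, U)) [q'.IsPrime] (p : Ideal Γ(Y, V)) [p.IsPrime]
      (hp : p = q'.comap (f.appLE V U e).hom), q' = q.asIdeal →
      (Arrow.mk (f.stalkMap (hU.fromSpec q)) ≅ Arrow.mk (CommRingCat.ofHom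
        (Localization.localRingHom p q' (f.appLE V U e).hom hp))) →
      ∃ (eY : Y.presheaf.stalk (f (hU.fromSpec q)) ≃+* Localization.AtPrime (q.asIdeal.comap (f.appLE V U e).hom))
        (eX : X.presheaf.stalk (hU.fromSpec q) ≃+* Localization.AtPrime q.asIdeal),
        ∀ a, eX ((f.stalkMap (hU.fromSpec q)).hom a) =
          Localization.localRingHom _ q.asIdeal (f.appLE V U e).hom rfl (eY a) from
    key _ _ _ (congrArg PrimeSpectrum.asIdeal hq) (IsAffineOpen.arrowStalkMapIso f V hV U hU e hx)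
  intro q' _ p _ hp hq' i
  subst hp hq'
  exact ⟨(Arrow.leftFunc.mapIso i).commRingCatIsoToRingEquiv, (Arrow.rightFunc.mapIso i).commRingCatIsoToRingEquiv,
    fun a => (ConcreteCategory.congr_hom (Arrow.w i.hom) a).symm⟩

/-- An integral birational morphism gives birational integral algebras over affine opens. -/
theorem biratHyp_of_isBirational [IsIntegralHom f] (hf : RadPt.IsBirational f) (hV : IsAffineOpen V) :
    letI := (f.app V).hom.toAlgebra
    BiratHyp Γ(Y, V) Γ(X, f ⁻¹ᵁ V) := by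
  letI := (f.app V).hom.toAlgebra
  have hU : IsAffineOpen (f ⁻¹ᵁ V) := hV.preimage f
  have happ : (f.appLE V (f ⁻¹ᵁ V) le_rfl).hom = (f.app V).hom := by rw [Scheme.Hom.app_eq_appLE]
  have hpt : ∀ q : PrimeSpectrum Γ(X, f ⁻¹ᵁ V), f (hU.fromSpec q) =
      hV.fromSpec (PrimeSpectrum.comap (f.app V).hom q) := fun q => by
    rw [← happ]
    exact (congrArg (fun g => g.base q) (hV.SpecMap_appLE_fromSpec f hU le_rfl)).symm
  refine ⟨fun Q hQ => ?_, fun Q hQ Q' hQ' e => ?_, fun P hP => ?_, fun Q hQ t => ?_⟩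
  · let q : PrimeSpectrum Γ(X, f ⁻¹ᵁ V) := ⟨Q, hQ.1.1⟩
    have := hf.1.1 ((mem_genericPoints_fromSpec_iff hU q).mpr hQ)
    rw [hpt q] at this
    exact (mem_genericPoints_fromSpec_iff hV _).mp this
  · let q : PrimeSpectrum Γ(X, f ⁻¹ᵁ V) := ⟨Q, hQ.1.1⟩
    let q' : PrimeSpectrum Γ(X, f ⁻¹ᵁ V) := ⟨Q', hQ'.1.1⟩
    have := hf.1.2.1 ((mem_genericPoints_fromSpec_iff hU q).mpr hQ) ((mem_genericPoints_fromSpec_iff hU q').mpr hQ')
      (by rw [hpt, hpt]; exact congrArg _ (PrimeSpectrum.ext e))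
    exact congrArg PrimeSpectrum.asIdeal (hU.fromSpec.isOpenEmbedding.injective this)
  · let pp : PrimeSpectrum Γ(Y, V) := ⟨P, hP.1.1⟩
    obtain ⟨x, hx, hxy⟩ := hf.1.2.2 ((mem_genericPoints_fromSpec_iff hV pp).mpr hP)
    obtain ⟨(q : PrimeSpectrum Γ(X, f ⁻¹ᵁ V)), rfl⟩ : x ∈ Set.range hU.fromSpec := by
      rw [hU.range_fromSpec]
      show f x ∈ V
      rw [hxy]
      exact hV.range_fromSpec.le ⟨pp, rfl⟩
    refine ⟨q.asIdeal, (mem_genericPoints_fromSpec_iff hU q).mp hx, ?_⟩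
    exact congrArg PrimeSpectrum.asIdeal (hV.fromSpec.isOpenEmbedding.injective ((hpt q).symm.trans hxy))
  · let q : PrimeSpectrum Γ(X, f ⁻¹ᵁ V) := ⟨Q, hQ.1.1⟩
    have hgen := hf.1.1 ((mem_genericPoints_fromSpec_iff hU q).mpr hQ)
    have hbij := (hf.2 _ hgen).2 (hU.fromSpec q) rfl
    haveI := q.2
    haveI : (q.asIdeal.comap (f.appLE V (f ⁻¹ᵁ V) le_rfl).hom).IsPrime := Ideal.IsPrime.comap _
    obtain ⟨eY, eX, hsq⟩ := exists_stalk_square hV hU le_rfl q
    obtain ⟨r, hr⟩ := hbij.2 (residue _ (eX.symm (algebraMap _ _ t)))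
    obtain ⟨r, rfl⟩ := residue_surjective r
    have h1 : (f.stalkMap (hU.fromSpec q)).hom r - eX.symm (algebraMap _ _ t) ∈
        maximalIdeal (X.presheaf.stalk (hU.fromSpec q)) := by
      rw [← residue_eq_zero_iff, map_sub, sub_eq_zero]
      exact (ResidueField.map_residue (f.stalkMap (hU.fromSpec q)).hom r).symm.trans hr
    obtain ⟨⟨a, s⟩, has⟩ := IsLocalization.surj (q.asIdeal.comap (f.appLE V (f ⁻¹ᵁ V) le_rfl).hom).primeCompl (eY r)
    refine ⟨a, s, fun hs => s.2 ?_, ?_⟩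
    · show (f.appLE V (f ⁻¹ᵁ V) le_rfl).hom s ∈ q.asIdeal
      exact (congrArg (fun ψ : Γ(Y, V) →+* Γ(X, f ⁻¹ᵁ V) => ψ (s : Γ(Y, V))) happ).symm ▸ hs
    · have h2 : Localization.localRingHom _ q.asIdeal (f.appLE V (f ⁻¹ᵁ V) le_rfl).hom rfl (eY r) -
          algebraMap _ (Localization.AtPrime q.asIdeal) t ∈ maximalIdeal (Localization.AtPrime q.asIdeal) := by
        intro hu
        apply h1
        have := hu.map eX.symm
        rwa [map_sub, ← hsq, eX.symm_apply_apply] at this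
      have h3 := (maximalIdeal (Localization.AtPrime q.asIdeal)).mul_mem_right
        (algebraMap _ _ ((f.appLE V (f ⁻¹ᵁ V) le_rfl).hom s)) h2
      rw [sub_mul] at h3
      rw [← Localization.localRingHom_to_map (q.asIdeal.comap (f.appLE V (f ⁻¹ᵁ V) le_rfl).hom) q.asIdeal
        (f.appLE V (f ⁻¹ᵁ V) le_rfl).hom rfl (s : Γ(Y, V))] at h3
      rw [← map_mul (Localization.localRingHom _ q.asIdeal (f.appLE V (f ⁻¹ᵁ V) le_rfl).hom rfl), has,
        Localization.localRingHom_to_map, Localization.localRingHom_to_map, ← map_mul, ← map_sub] at h3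
      have h4 := (IsLocalization.AtPrime.to_map_mem_maximal_iff (Localization.AtPrime q.asIdeal) q.asIdeal _).mp h3
      have hv : ∀ v, (f.appLE V (f ⁻¹ᵁ V) le_rfl).hom v = (f.app V).hom v := fun v => RingHom.congr_fun happ v
      simp only [hv] at h4
      show (f.app V).hom s * t - (f.app V).hom a ∈ Q
      rw [← neg_sub, mul_comm]
      exact Q.neg_mem h4

/-- Geometric unibranchness at a point under an integral birational morphism. -/
theorem isGeomUnibranch_stalk_iff [IsIntegralHom f] (hf : RadPt.IsBirational f) (y : Y) :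
    CAlg2.IsGeomUnibranch (Y.presheaf.stalk y) ↔
      (RadPt.IsRadicialAt f y ∧ ∀ x : X, f x = y → CAlg2.IsGeomUnibranch (X.presheaf.stalk x)) := by
  obtain ⟨_, ⟨V, hV, rfl⟩, hyV, -⟩ :=
    Y.isBasis_affineOpens.exists_subset_of_mem_open (Set.mem_univ y) isOpen_univ
  have hU : IsAffineOpen (f ⁻¹ᵁ V) := hV.preimage f
  obtain ⟨pp, rfl⟩ : y ∈ Set.range hV.fromSpec := hV.range_fromSpec.ge hyV
  letI := (f.app V).hom.toAlgebra
  haveI : Algebra.IsIntegral Γ(Y, V) Γ(X, f ⁻¹ᵁ V) := algebraMap_isIntegral_iff.mp (f.isIntegral_app V hV)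
  have happ : (f.appLE V (f ⁻¹ᵁ V) le_rfl).hom = algebraMap Γ(Y, V) Γ(X, f ⁻¹ᵁ V) := by
    rw [RingHom.algebraMap_toAlgebra, Scheme.Hom.app_eq_appLE]
  have hpt : ∀ q : PrimeSpectrum Γ(X, f ⁻¹ᵁ V), f (hU.fromSpec q) =
      hV.fromSpec (PrimeSpectrum.comap (algebraMap Γ(Y, V) Γ(X, f ⁻¹ᵁ V)) q) := fun q => by
    rw [← happ]
    exact (congrArg (fun g => g.base q) (hV.SpecMap_appLE_fromSpec f hU le_rfl)).symm
  let p := pp.asIdeal
  let A := Localization.AtPrime p
  let N := Algebra.algebraMapSubmonoid Γ(X, f ⁻¹ᵁ V) p.primeCompl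
  let B := Localization N
  haveI : Algebra.IsIntegral A B := ⟨isIntegral_localization (M := p.primeCompl)⟩
  have h : BiratHyp A B := (biratHyp_of_isBirational hf hV).localization p.primeCompl A B
  -- the stalk of `Y`
  have heY : ∃ eY : A ≃+* Y.presheaf.stalk (hV.fromSpec pp), True := by
    have hy : hV.fromSpec pp ∈ V := hV.range_fromSpec.le ⟨pp, rfl⟩
    letI := Y.presheaf.algebra_section_stalk ⟨hV.fromSpec pp, hy⟩
    haveI := hV.isLocalization_stalk ⟨hV.fromSpec pp, hy⟩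
    have hq : hV.primeIdealOf ⟨hV.fromSpec pp, hy⟩ = pp :=
      hV.fromSpec.isOpenEmbedding.injective (hV.fromSpec_primeIdealOf _)
    haveI : IsLocalization p.primeCompl (Y.presheaf.stalk (hV.fromSpec pp)) := by
      have := hV.isLocalization_stalk ⟨hV.fromSpec pp, hy⟩
      rw [hq] at this
      exact this
    exact ⟨(IsLocalization.algEquiv p.primeCompl A (Y.presheaf.stalk (hV.fromSpec pp))).toRingEquiv, trivial⟩
  obtain ⟨eY₀, -⟩ := heY
  -- points of the fibre and maximal ideals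
  have hfib : ∀ q : PrimeSpectrum Γ(X, f ⁻¹ᵁ V), f (hU.fromSpec q) = hV.fromSpec pp ↔
      q.asIdeal.comap (algebraMap Γ(Y, V) Γ(X, f ⁻¹ᵁ V)) = p := fun q => by
    rw [hpt, hV.fromSpec.isOpenEmbedding.injective.eq_iff, PrimeSpectrum.ext_iff]
    rfl
  have hmax : ∀ M : Ideal B, M.IsMaximal → (M.comap (algebraMap Γ(X, f ⁻¹ᵁ V) B)).comap
      (algebraMap Γ(Y, V) Γ(X, f ⁻¹ᵁ V)) = p := fun M hM => by
    have h1 : (M.comap (algebraMap A B)).IsMaximal := Ideal.isMaximal_comap_of_isIntegral_of_isMaximal M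
    rw [Ideal.comap_comap, ← IsScalarTower.algebraMap_eq, IsScalarTower.algebraMap_eq Γ(Y, V) A B,
      ← Ideal.comap_comap, IsLocalRing.eq_maximalIdeal h1]
    exact Localization.AtPrime.under_maximalIdeal (I := p)
  have hof : ∀ q : PrimeSpectrum Γ(X, f ⁻¹ᵁ V), f (hU.fromSpec q) = hV.fromSpec pp →
      ∃ M : Ideal B, M.IsMaximal ∧ M.comap (algebraMap Γ(X, f ⁻¹ᵁ V) B) = q.asIdeal := fun q hq => by
    have hqp := (hfib q).mp hq
    have hdis : Disjoint (N : Set Γ(X, f ⁻¹ᵁ V)) q.asIdeal := Set.disjoint_left.mpr fun n ⟨m, hm, hmn⟩ hnq => by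
      subst hmn
      exact hm (hqp.le hnq)
    haveI := IsLocalization.isPrime_of_isPrime_disjoint N B q.asIdeal q.2 hdis
    have hc := comap_map' (S := B) N q.2 hdis
    refine ⟨q.asIdeal.map (algebraMap Γ(X, f ⁻¹ᵁ V) B), ?_, hc⟩
    refine Ideal.isMaximal_of_isIntegral_of_isMaximal_comap (R := A) _ ?_
    rw [← map_comap' p.primeCompl ((q.asIdeal.map (algebraMap Γ(X, f ⁻¹ᵁ V) B)).comap (algebraMap A B)),
      Ideal.comap_comap, ← IsScalarTower.algebraMap_eq, IsScalarTower.algebraMap_eq Γ(Y, V) Γ(X, f ⁻¹ᵁ V) B,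
      ← Ideal.comap_comap]
    show (Ideal.map (algebraMap Γ(Y, V) A) _).IsMaximal
    rw [show (q.asIdeal.map (algebraMap Γ(X, f ⁻¹ᵁ V) B)).comap (algebraMap Γ(X, f ⁻¹ᵁ V) B) = q.asIdeal from hc,
      hqp, Localization.AtPrime.map_eq_maximalIdeal]
    exact maximalIdeal.isMaximal A
  -- transfer along a local `B`
  have trans : ∀ [IsLocalRing B], ∀ x : X, f x = hV.fromSpec pp →
      ((CAlg2.IsGeomUnibranch B ∧ ResPI (algebraMap A B)) ↔
        (CAlg2.IsGeomUnibranch (X.presheaf.stalk x) ∧ (f.residueFieldMap x).hom.IsPurelyInseparable)) := by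
    intro _ x hx
    obtain ⟨(q : PrimeSpectrum Γ(X, f ⁻¹ᵁ V)), rfl⟩ : x ∈ Set.range hU.fromSpec := by
      rw [hU.range_fromSpec]
      show f x ∈ V
      rw [hx]
      exact hV.range_fromSpec.le ⟨pp, rfl⟩
    obtain ⟨M, hM, hMq⟩ := hof q hx
    obtain rfl : M = maximalIdeal B := IsLocalRing.eq_maximalIdeal hM
    haveI hBq : IsLocalization q.asIdeal.primeCompl B := by
      have key : ∀ (Q : Ideal Γ(X, f ⁻¹ᵁ V)) [Q.IsPrime], Q = (maximalIdeal B).comap (algebraMap Γ(X, f ⁻¹ᵁ V) B) →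
          IsLocalization Q.primeCompl B := by
        intro Q _ hQ
        subst hQ
        haveI := IsLocalization.isLocalization_isLocalization_atPrime_isLocalization N
          (Localization.AtPrime (maximalIdeal B)) (maximalIdeal B)
        let e := (IsLocalization.atUnits B (maximalIdeal B).primeCompl (S := Localization.AtPrime (maximalIdeal B))
          (fun z hz => notMem_maximalIdeal.mp hz))
        exact IsLocalization.isLocalization_of_algEquiv _ (e.restrictScalars Γ(X, f ⁻¹ᵁ V)).symm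
      exact key q.asIdeal hMq.symm
    haveI := q.2
    haveI : (q.asIdeal.comap (f.appLE V (f ⁻¹ᵁ V) le_rfl).hom).IsPrime := Ideal.IsPrime.comap _
    obtain ⟨eY, eX, hsq⟩ := exists_stalk_square hV hU le_rfl q
    let eB : B ≃+* X.presheaf.stalk (hU.fromSpec q) :=
      (IsLocalization.algEquiv q.asIdeal.primeCompl B (Localization.AtPrime q.asIdeal)).toRingEquiv.trans eX.symm
    have hpp : q.asIdeal.comap (f.appLE V (f ⁻¹ᵁ V) le_rfl).hom = p := by rw [happ]; exact (hfib q).mp hx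
    haveI : IsLocalization (q.asIdeal.comap (f.appLE V (f ⁻¹ᵁ V) le_rfl).hom).primeCompl A := by
      have key : ∀ (P : Ideal Γ(Y, V)) [P.IsPrime], P = p → IsLocalization P.primeCompl A := by
        intro P _ hP; subst hP; infer_instance
      exact key _ hpp
    let eA : A ≃+* Y.presheaf.stalk (f (hU.fromSpec q)) :=
      (IsLocalization.algEquiv (q.asIdeal.comap (f.appLE V (f ⁻¹ᵁ V) le_rfl).hom).primeCompl A
        (Localization.AtPrime (q.asIdeal.comap (f.appLE V (f ⁻¹ᵁ V) le_rfl).hom))).toRingEquiv.trans eY.symm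
    have hcomm : eB.toRingHom.comp (algebraMap A B) = (f.stalkMap (hU.fromSpec q)).hom.comp eA.toRingHom := by
      refine IsLocalization.ringHom_ext p.primeCompl (RingHom.ext fun r => ?_)
      apply eX.injective
      simp only [RingHom.comp_apply, eB, eA, RingEquiv.toRingHom_eq_coe, RingEquiv.coe_toRingHom,
        RingEquiv.trans_apply, RingEquiv.apply_symm_apply, AlgEquiv.coe_ringEquiv, hsq, AlgEquiv.commutes,
        Localization.localRingHom_to_map]
      rw [← IsScalarTower.algebraMap_apply, IsScalarTower.algebraMap_apply Γ(Y, V) Γ(X, f ⁻¹ᵁ V) B,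
        AlgEquiv.commutes, happ]
    haveI : IsLocalHom (f.stalkMap (hU.fromSpec q)).hom := inferInstance
    refine and_congr ⟨H06EGA14.isGeomUnibranch_of_ringEquiv eB, H06EGA14.isGeomUnibranch_of_ringEquiv eB.symm⟩ ?_
    refine Iff.trans ?_ (resPI_iff (f.stalkMap (hU.fromSpec q)).hom)
    rw [← resPI_comp_equiv (algebraMap A B) eB, hcomm]
    have hch : ringExpChar (ResidueField A) = ringExpChar (ResidueField (Y.presheaf.stalk (f (hU.fromSpec q)))) :=
      (ringExpChar_eq_of_ringHom (ResidueField.mapEquiv eA).toRingHom).symm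
    constructor
    · intro hh b
      obtain ⟨n, a, ha⟩ := hh b
      exact ⟨n, eA a, hch ▸ ha⟩
    · intro hh b
      obtain ⟨n, a, ha⟩ := hh b
      refine ⟨n, eA.symm a, ?_⟩
      rw [hch]
      show (f.stalkMap (hU.fromSpec q)).hom (eA (eA.symm a)) - _ ∈ _
      rw [eA.apply_symm_apply]
      exact ha
  rw [show CAlg2.IsGeomUnibranch (Y.presheaf.stalk (hV.fromSpec pp)) ↔ CAlg2.IsGeomUnibranch A from
    ⟨H06EGA14.isGeomUnibranch_of_ringEquiv eY₀.symm, H06EGA14.isGeomUnibranch_of_ringEquiv eY₀⟩]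
  constructor
  · intro hA
    haveI := isLocalRing_of_isGeomUnibranch h hA
    haveI : IsLocalHom (algebraMap A B) := isLocalHom_of_isIntegral
    have hB := (isGeomUnibranch_iff_of_isLocalRing h).mp hA
    refine ⟨⟨fun x x' hx hx' => ?_, fun x hx => ((trans x hx).mp hB).2⟩, fun x hx => ((trans x hx).mp hB).1⟩
    have key : ∀ z, f z = hV.fromSpec pp →
        ∃ q : PrimeSpectrum Γ(X, f ⁻¹ᵁ V), hU.fromSpec q = z ∧ q.asIdeal = (maximalIdeal B).comap (algebraMap _ B) := by
      intro z hz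
      obtain ⟨(q : PrimeSpectrum Γ(X, f ⁻¹ᵁ V)), rfl⟩ : z ∈ Set.range hU.fromSpec := by
        rw [hU.range_fromSpec]
        show f z ∈ V
        rw [hz]
        exact hV.range_fromSpec.le ⟨pp, rfl⟩
      obtain ⟨M, hM, hMq⟩ := hof q hz
      exact ⟨q, rfl, by rw [← hMq, IsLocalRing.eq_maximalIdeal hM]⟩
    obtain ⟨q, rfl, hq⟩ := key x hx
    obtain ⟨q', rfl, hq'⟩ := key x' hx'
    rw [PrimeSpectrum.ext (hq.trans hq'.symm)]
  · rintro ⟨⟨huniq, hpi⟩, hgu⟩
    obtain ⟨P, hP⟩ : (minimalPrimes A).Nonempty :=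
      Set.nonempty_coe_sort.mp (Ideal.nonempty_minimalPrimes (bot_ne_top (α := Ideal A)))
    obtain ⟨Q, hQ, -⟩ := h.surj P hP
    haveI : Nontrivial B := ⟨⟨0, 1, fun h01 => hQ.1.1.ne_top
      ((Ideal.eq_top_iff_one _).mpr (h01 ▸ Q.zero_mem))⟩⟩
    obtain ⟨M₀, hM₀⟩ := Ideal.exists_maximal B
    have hpt' : ∀ M : Ideal B, M.IsMaximal →
        ∃ q : PrimeSpectrum Γ(X, f ⁻¹ᵁ V), q.asIdeal = M.comap (algebraMap _ B) ∧ f (hU.fromSpec q) = hV.fromSpec pp :=
      fun M hM => by
        haveI := hM.isPrime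
        exact ⟨⟨M.comap (algebraMap Γ(X, f ⁻¹ᵁ V) B), Ideal.IsPrime.comap _⟩, rfl, (hfib _).mpr (hmax M hM)⟩
    haveI : IsLocalRing B := IsLocalRing.of_unique_max_ideal ⟨M₀, hM₀, fun M hM => by
      obtain ⟨q, hq, hqy⟩ := hpt' M hM
      obtain ⟨q', hq', hqy'⟩ := hpt' M₀ hM₀
      have := hU.fromSpec.isOpenEmbedding.injective (huniq _ _ hqy hqy')
      rw [← map_comap' N M, ← map_comap' N M₀]
      rw [← hq, ← hq', this]⟩
    obtain ⟨q, -, hqy⟩ := hpt' M₀ hM₀
    haveI : IsLocalHom (algebraMap A B) := isLocalHom_of_isIntegral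
    exact (isGeomUnibranch_iff_of_isLocalRing h).mpr ((trans _ hqy).mpr ⟨hgu _ hqy, hpi _ hqy⟩)

theorem forall_isGeomUnibranch_iff [IsIntegralHom f] (hf : RadPt.IsBirational f) :
    (∀ y : Y, CAlg2.IsGeomUnibranch (Y.presheaf.stalk y)) ↔
      ((∀ x : X, CAlg2.IsGeomUnibranch (X.presheaf.stalk x)) ∧ UniversallyInjective f) := by
  have h02 : UniversallyInjective f ↔ Function.Injective f ∧ ∀ x, (f.residueFieldMap x).hom.IsPurelyInseparable :=
    (tfae_universallyInjective f).out 0 2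
  rw [h02]
  refine ⟨fun h => ?_, fun ⟨hX, hinj, hpi⟩ y => (isGeomUnibranch_stalk_iff hf y).mpr
    ⟨⟨fun x x' hx hx' => hinj (hx.trans hx'.symm), fun x _ => hpi x⟩, fun x _ => hX x⟩⟩
  have h' := fun y => (isGeomUnibranch_stalk_iff hf y).mp (h y)
  exact ⟨fun x => (h' (f x)).2 x rfl, fun x x' e => (h' (f x')).1.1 x x' e rfl, fun x => (h' (f x)).1.2 x rfl⟩

end Groth.Agent.H06RadPt
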