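import Groth.Agent.H06RadPt.Basic

/-!
Changing the field of a geometric fibre.
-/

set_option autoImplicit false

universe u

open CategoryTheory CategoryTheory.Limits AlgebraicGeometry IsLocalRing

namespace Groth.Agent.H06RadPt

variable (P : ∀ (k : Type u) [Field k] (Z : Scheme.{u}), (Z ⟶ Spec (CommRingCat.of k)) → Prop)
  (hiso : ∀ (k : Type u) [Field k] (Z Z' : Scheme.{u}) (e : Z ≅ Z') (g : Z' ⟶ Spec (CommRingCat.of k)),
      P k Z' g → P k Z (e.hom ≫ g))

include hiso

theorem iso_iff {k : Type u} [Field k] {Z Z' : Scheme.{u}} (e : Z ≅ Z')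
    (g : Z ⟶ Spec (CommRingCat.of k)) (g' : Z' ⟶ Spec (CommRingCat.of k)) (h : e.hom ≫ g' = g) :
    P k Z g ↔ P k Z' g' := by
  refine ⟨fun H => ?_, fun H => h ▸ hiso k Z Z' e g' H⟩
  have := hiso k Z' Z e.symm g H
  rwa [Iso.symm_hom, ← h, Iso.inv_hom_id_assoc] at this

theorem ext_iff_comp {X T : Scheme.{u}} (f : X ⟶ T) {k K : Type u} [Field k] [Field K] (i : k →+* K)
    (σ : Spec (CommRingCat.of k) ⟶ T) :
    P K (pullback (pullback.snd f σ) (Spec.map (CommRingCat.ofHom i)))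
        (pullback.snd (pullback.snd f σ) (Spec.map (CommRingCat.ofHom i))) ↔
      P K (pullback f (Spec.map (CommRingCat.ofHom i) ≫ σ))
        (pullback.snd f (Spec.map (CommRingCat.ofHom i) ≫ σ)) :=
  iso_iff P hiso (pullbackLeftPullbackSndIso f σ _) _ _
    (pullbackLeftPullbackSndIso_hom_snd f σ _)

theorem congr_pt {X T : Scheme.{u}} (f : X ⟶ T) {k : Type u} [Field k]
    {σ σ' : Spec (CommRingCat.of k) ⟶ T} (h : σ = σ') :
    P k (pullback f σ) (pullback.snd f σ) ↔ P k (pullback f σ') (pullback.snd f σ') := by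
  subst h; rfl

end Groth.Agent.H06RadPt
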