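import Groth.Agent.H06EGA14.UnibranchEquiv

/-!
# Geometric unibranchness along integral birational maps of local rings (EGA IV 6.15.5)
-/

set_option autoImplicit false
set_option linter.style.haveILetI false
universe u

open IsLocalRing

namespace Groth.Agent.H06RadPt

/-- The residue extension of a local homomorphism is purely inseparable, elementwise. -/
def ResPI {A B : Type u} [CommRing A] [CommRing B] [IsLocalRing A] [IsLocalRing B] (ψ : A →+* B) : Prop :=
  ∀ b : B, ∃ (n : ℕ) (a : A), ψ a - b ^ ringExpChar (ResidueField A) ^ n ∈ maximalIdeal B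

theorem resPI_iff {A B : Type u} [CommRing A] [CommRing B] [IsLocalRing A] [IsLocalRing B] (ψ : A →+* B)
    [IsLocalHom ψ] : ResPI ψ ↔ (ResidueField.map ψ).IsPurelyInseparable := by
  letI := (ResidueField.map ψ).toAlgebra
  show ResPI ψ ↔ IsPurelyInseparable (ResidueField A) (ResidueField B)
  rw [isPurelyInseparable_iff_pow_mem (ResidueField A) (ringExpChar (ResidueField A))]
  constructor
  · intro h x
    obtain ⟨b, rfl⟩ := residue_surjective x
    obtain ⟨n, a, ha⟩ := h b
    refine ⟨n, residue A a, ?_⟩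
    rw [← map_pow]
    exact ((ResidueField.map_residue ψ a).trans (sub_eq_zero.mp (by rw [← map_sub, residue_eq_zero_iff]; exact ha)))
  · intro h b
    obtain ⟨n, r, hr⟩ := h (residue B b)
    obtain ⟨a, rfl⟩ := residue_surjective r
    refine ⟨n, a, ?_⟩
    rw [← residue_eq_zero_iff, map_sub, map_pow, sub_eq_zero]
    exact (ResidueField.map_residue ψ a).symm.trans hr

theorem resPI_comp_equiv {A B B' : Type u} [CommRing A] [CommRing B] [CommRing B'] [IsLocalRing A] [IsLocalRing B]
    [IsLocalRing B'] (ψ : A →+* B) (e : B ≃+* B') : ResPI (e.toRingHom.comp ψ) ↔ ResPI ψ := by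
  constructor
  · intro h b
    obtain ⟨n, a, ha⟩ := h (e b)
    refine ⟨n, a, fun hu => ha ?_⟩
    have := hu.map e
    simpa using this
  · intro h b
    obtain ⟨n, a, ha⟩ := h (e.symm b)
    refine ⟨n, a, fun hu => ha ?_⟩
    have := hu.map e.symm
    simpa using this

theorem ringExpChar_eq_of_ringHom {K L : Type u} [Field K] [Field L] (f : K →+* L) :
    ringExpChar L = ringExpChar K := by
  haveI := expChar_of_injective_ringHom (f := f) f.injective (ringExpChar K)
  exact ringExpChar.eq _ _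

variable {A B : Type u} [CommRing A] [CommRing B] [Algebra A B]

/-- Birationality of an integral algebra, at the level of minimal primes. -/
structure BiratHyp (A B : Type u) [CommRing A] [CommRing B] [Algebra A B] : Prop where
  maps : ∀ Q ∈ minimalPrimes B, Q.comap (algebraMap A B) ∈ minimalPrimes A
  inj : ∀ Q ∈ minimalPrimes B, ∀ Q' ∈ minimalPrimes B,
    Q.comap (algebraMap A B) = Q'.comap (algebraMap A B) → Q = Q'
  surj : ∀ P ∈ minimalPrimes A, ∃ Q ∈ minimalPrimes B, Q.comap (algebraMap A B) = P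
  frac : ∀ Q ∈ minimalPrimes B, ∀ b : B, ∃ a s : A,
    s ∉ Q.comap (algebraMap A B) ∧ algebraMap A B s * b - algebraMap A B a ∈ Q

theorem isPrime_nilradical_iff (R : Type u) [CommRing R] :
    (nilradical R).IsPrime ↔ ∃ P, minimalPrimes R = {P} := by
  constructor
  · intro h
    refine ⟨nilradical R, Set.eq_singleton_iff_unique_mem.mpr ⟨?_, fun P hP => ?_⟩⟩
    · exact ⟨⟨h, bot_le⟩, fun Q hQ _ => nilradical_le_prime Q (H := hQ.1)⟩
    · haveI := hP.1.1
      exact le_antisymm (hP.2 ⟨h, bot_le⟩ (nilradical_le_prime P)) (nilradical_le_prime P)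
  · rintro ⟨P, hP⟩
    have hmem : P ∈ minimalPrimes R := hP ▸ rfl
    have : nilradical R = P := by
      rw [nilradical, ← Ideal.sInf_minimalPrimes (I := (0 : Ideal R))]
      rw [show (0 : Ideal R).minimalPrimes = {P} from hP]
      exact csInf_singleton P
    exact this ▸ hmem.1.1

/-- The two nilradicals are simultaneously prime, and then one contracts to the other. -/
theorem BiratHyp.nilradical_prime_iff (h : BiratHyp A B) :
    ((nilradical A).IsPrime ↔ (nilradical B).IsPrime) ∧
      ((nilradical B).IsPrime → (nilradical B).comap (algebraMap A B) = nilradical A) := by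
  rw [isPrime_nilradical_iff, isPrime_nilradical_iff]
  constructor
  · constructor
    · rintro ⟨P, hP⟩
      obtain ⟨Q, hQ, -⟩ := h.surj P (hP ▸ rfl)
      refine ⟨Q, Set.eq_singleton_iff_unique_mem.mpr ⟨hQ, fun Q' hQ' => h.inj Q' hQ' Q hQ ?_⟩⟩
      exact (Set.mem_singleton_iff.mp (hP ▸ h.maps Q' hQ')).trans (Set.mem_singleton_iff.mp (hP ▸ h.maps Q hQ)).symm
    · rintro ⟨Q, hQ⟩
      refine ⟨Q.comap (algebraMap A B), Set.eq_singleton_iff_unique_mem.mpr
        ⟨h.maps Q (hQ.symm ▸ rfl), fun P hP => ?_⟩⟩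
      obtain ⟨Q', hQ', rfl⟩ := h.surj P hP
      rw [hQ, Set.mem_singleton_iff] at hQ'
      rw [hQ']
  · rintro ⟨Q, hQ⟩
    have hB : (nilradical B).IsPrime := (isPrime_nilradical_iff B).mpr ⟨Q, hQ⟩
    have hQe : Q = nilradical B := by
      obtain ⟨Q', hQ'⟩ := (isPrime_nilradical_iff B).mp hB
      have hQm : nilradical B ∈ minimalPrimes B :=
        ⟨⟨hB, bot_le⟩, fun R hR _ => nilradical_le_prime R (H := hR.1)⟩
      exact (Set.mem_singleton_iff.mp (hQ ▸ hQm)).symm
    subst hQe
    have hmax := h.maps (nilradical B) (hQ.symm ▸ rfl)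
    have hA : (nilradical A).IsPrime := by
      refine (isPrime_nilradical_iff A).mpr ⟨_, Set.eq_singleton_iff_unique_mem.mpr ⟨hmax, fun P hP => ?_⟩⟩
      obtain ⟨Q', hQ', rfl⟩ := h.surj P hP
      rw [hQ, Set.mem_singleton_iff] at hQ'
      rw [hQ']
    haveI := hmax.1.1
    exact le_antisymm (hmax.2 ⟨hA, bot_le⟩ (nilradical_le_prime _)) (nilradical_le_prime _)

variable [Algebra.IsIntegral A B]

theorem isIntegral_quotientMap {R S : Type u} [CommRing R] [CommRing S] (f : R →+* S) (hf : f.IsIntegral)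
    (I : Ideal R) (J : Ideal S) (hle : I ≤ J.comap f) : (Ideal.quotientMap J f hle).IsIntegral := by
  intro x
  obtain ⟨b, rfl⟩ := Ideal.Quotient.mk_surjective x
  obtain ⟨p, hp, hpb⟩ := hf b
  refine ⟨p.map (Ideal.Quotient.mk I), hp.map _, ?_⟩
  rw [Polynomial.eval₂_map, Ideal.quotientMap_comp_mk, ← Polynomial.hom_eval₂, hpb, map_zero]

theorem isIntegral_map_of_ringHom {R S K L : Type u} [CommRing R] [CommRing S] [CommRing K] [CommRing L]
    [Algebra R K] [Algebra S L] (ψ : R →+* S) (φ : K →+* L)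
    (hφ : ∀ a, φ (algebraMap R K a) = algebraMap S L (ψ a)) (x : K) (hx : IsIntegral R x) :
    IsIntegral S (φ x) := by
  obtain ⟨f, hf, hfx⟩ := hx
  refine ⟨f.map ψ, hf.map _, ?_⟩
  rw [Polynomial.eval₂_map, show (algebraMap S L).comp ψ = φ.comp (algebraMap R K) from
    RingHom.ext fun a => (hφ a).symm, ← Polynomial.hom_eval₂, hfx, map_zero]

theorem isIntegral_of_ringHom {R S K L : Type u} [CommRing R] [CommRing S] [CommRing K] [CommRing L]
    [Algebra R K] [Algebra S L] (ψ : R →+* S) (hψ : ψ.IsIntegral) (g : S →+* L) (φ : L →+* K)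
    (hcomp : ∀ a, φ (g (ψ a)) = algebraMap R K a) (y : L) (hy : g.IsIntegralElem y) :
    IsIntegral R (φ y) := by
  letI : Algebra R S := ψ.toAlgebra
  letI : Algebra S K := (φ.comp g).toAlgebra
  haveI : IsScalarTower R S K := IsScalarTower.of_algebraMap_eq fun a => (hcomp a).symm
  haveI : Algebra.IsIntegral R S := algebraMap_isIntegral_iff.mp hψ
  refine isIntegral_trans (A := S) (φ y) ?_
  obtain ⟨f, hf, hfy⟩ := hy
  refine ⟨f, hf, ?_⟩
  show Polynomial.eval₂ (φ.comp g) (φ y) f = 0
  rw [← Polynomial.hom_eval₂, hfy, map_zero]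

set_option maxHeartbeats 1600000 in
/-- Comparison of the normalisations. -/
theorem exists_normRed_equiv (h : BiratHyp A B) (hA : (nilradical A).IsPrime) :
    ∃ (_ : IsDomain (CAlg2.red A)) (_ : IsDomain (CAlg2.red B)) (N : CAlg2.normRed A ≃+* CAlg2.normRed B),
      ∀ a : A, N (algebraMap (CAlg2.red A) _ (Ideal.Quotient.mk _ a)) =
        algebraMap (CAlg2.red B) _ (Ideal.Quotient.mk _ (algebraMap A B a)) := by
  haveI := hA
  haveI hB : (nilradical B).IsPrime := h.nilradical_prime_iff.1.mp hA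
  haveI hdA : IsDomain (CAlg2.red A) := Ideal.Quotient.isDomain _
  haveI hdB : IsDomain (CAlg2.red B) := Ideal.Quotient.isDomain _
  have hcomap := h.nilradical_prime_iff.2 hB
  let ψ₀ : CAlg2.red A →+* CAlg2.red B := Ideal.quotientMap _ (algebraMap A B) hcomap.ge
  have hψ₀ : Function.Injective ψ₀ := Ideal.quotientMap_injective' hcomap.le
  have hint : ψ₀.IsIntegral := isIntegral_quotientMap (algebraMap A B) (algebraMap_isIntegral_iff.mpr ‹_›) (nilradical A) (nilradical B) hcomap.ge
  let KA := FractionRing (CAlg2.red A)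
  let KB := FractionRing (CAlg2.red B)
  have hj : Function.Injective ((algebraMap (CAlg2.red B) KB).comp ψ₀) :=
    (IsFractionRing.injective (CAlg2.red B) KB).comp hψ₀
  let φ₀ : KA →+* KB := IsFractionRing.lift hj
  have hφ₀ : ∀ a, φ₀ (algebraMap _ _ a) = algebraMap _ _ (ψ₀ a) := fun a => IsFractionRing.lift_algebraMap hj a
  have hQm : nilradical B ∈ minimalPrimes B :=
    ⟨⟨hB, bot_le⟩, fun R hR _ => nilradical_le_prime R (H := hR.1)⟩
  have hb : ∀ b : CAlg2.red B, algebraMap _ KB b ∈ φ₀.range := by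
    intro b
    obtain ⟨b, rfl⟩ := Ideal.Quotient.mk_surjective b
    obtain ⟨a, s, hs, hsa⟩ := h.frac _ hQm b
    have hs0 : algebraMap (CAlg2.red A) KA (Ideal.Quotient.mk _ s) ≠ 0 := fun h0 => by
      rw [map_eq_zero_iff _ (IsFractionRing.injective (CAlg2.red A) KA), Ideal.Quotient.eq_zero_iff_mem] at h0
      exact hs (hcomap.ge h0)
    refine ⟨algebraMap (CAlg2.red A) KA (Ideal.Quotient.mk (nilradical A) a) /
      algebraMap (CAlg2.red A) KA (Ideal.Quotient.mk (nilradical A) s), ?_⟩
    rw [map_div₀, hφ₀, hφ₀]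
    refine (div_eq_iff ?_).mpr ?_
    · rw [← hφ₀]; exact (map_ne_zero φ₀).mpr hs0
    · rw [← map_mul]
      congr 1
      show Ideal.Quotient.mk _ (algebraMap A B a) = Ideal.Quotient.mk _ b * Ideal.Quotient.mk _ (algebraMap A B s)
      rw [← map_mul, eq_comm, Ideal.Quotient.eq, mul_comm]
      exact hsa
  have hsurj : Function.Surjective φ₀ := fun y => by
    obtain ⟨p, q, -, rfl⟩ := IsFractionRing.div_surjective (A := CAlg2.red B) y
    obtain ⟨p', hp⟩ := hb p
    obtain ⟨q', hq⟩ := hb q
    exact ⟨p' / q', by rw [map_div₀, hp, hq]⟩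
  let φ : KA ≃+* KB := RingEquiv.ofBijective φ₀ ⟨φ₀.injective, hsurj⟩
  have hcomp : ∀ a, φ.symm (algebraMap (CAlg2.red B) KB (ψ₀ a)) = algebraMap (CAlg2.red A) KA a := fun a => by
    rw [← hφ₀]; exact φ.symm_apply_apply _
  have hfwd : ∀ x : KA, IsIntegral (CAlg2.red A) x → IsIntegral (CAlg2.red B) (φ x) :=
    fun x hx => isIntegral_map_of_ringHom ψ₀ φ.toRingHom hφ₀ x hx
  have hbwd : ∀ y : KB, IsIntegral (CAlg2.red B) y → IsIntegral (CAlg2.red A) (φ.symm y) :=
    fun y hy => isIntegral_of_ringHom ψ₀ hint (algebraMap (CAlg2.red B) KB) φ.symm.toRingHom hcomp y hy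
  let N : CAlg2.normRed A ≃+* CAlg2.normRed B :=
    { toFun := fun x => ⟨φ x.1, hfwd x.1 x.2⟩
      invFun := fun y => ⟨φ.symm y.1, hbwd y.1 y.2⟩
      left_inv := fun x => Subtype.ext (φ.symm_apply_apply x.1)
      right_inv := fun y => Subtype.ext (φ.apply_symm_apply y.1)
      map_mul' := fun x y => Subtype.ext (map_mul φ x.1 y.1)
      map_add' := fun x y => Subtype.ext (map_add φ x.1 y.1) }
  exact ⟨hdA, hdB, N, fun a => Subtype.ext (hφ₀ _)⟩

variable [IsLocalRing A] [IsLocalRing B] [IsLocalHom (algebraMap A B)]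

set_option maxHeartbeats 1600000 in
set_option synthInstance.maxHeartbeats 200000 in
/-- Transfer of geometric unibranchness along an integral birational local map. -/
theorem isGeomUnibranch_iff_of_isLocalRing (h : BiratHyp A B) :
    CAlg2.IsGeomUnibranch A ↔ CAlg2.IsGeomUnibranch B ∧ ResPI (algebraMap A B) := by
  by_cases hA : (nilradical A).IsPrime
  swap
  · refine iff_of_false (fun g => hA ?_) (fun g => hA (h.nilradical_prime_iff.1.mpr ?_))
    · exact (Ideal.Quotient.isDomain_iff_prime _).mp g.1.1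
    · exact (Ideal.Quotient.isDomain_iff_prime _).mp g.1.1.1
  obtain ⟨hdA, hdB, N, hN⟩ := exists_normRed_equiv h hA
  let iA : A →+* CAlg2.normRed A := (algebraMap (CAlg2.red A) _).comp (Ideal.Quotient.mk _)
  let iB : B →+* CAlg2.normRed B := (algebraMap (CAlg2.red B) _).comp (Ideal.Quotient.mk _)
  have hiB : ∀ (m' : Ideal (CAlg2.normRed B)), m'.IsMaximal → ∀ b : B, iB b ∈ m' ↔ b ∈ maximalIdeal B := by
    intro m' hm' b
    haveI : (m'.comap iB).IsMaximal := by
      have h1 : (m'.comap (algebraMap (CAlg2.red B) (CAlg2.normRed B))).IsMaximal :=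
        Ideal.isMaximal_comap_of_isIntegral_of_isMaximal m'
      exact Ideal.comap_isMaximal_of_surjective (Ideal.Quotient.mk (nilradical B)) Ideal.Quotient.mk_surjective (H := h1)
    rw [← IsLocalRing.eq_maximalIdeal ‹(m'.comap iB).IsMaximal›]
    rfl
  -- the residue characteristic is the same everywhere
  have hch : ∀ (m : Ideal (CAlg2.normRed A)) [m.IsMaximal],
      ringExpChar (CAlg2.normRed A ⧸ m) = ringExpChar (ResidueField A) := by
    intro m hm
    letI := Ideal.Quotient.field m
    haveI : IsLocalHom ((Ideal.Quotient.mk m).comp iA) := by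
      haveI : (m.comap iA).IsMaximal := by
        have h1 : (m.comap (algebraMap (CAlg2.red A) (CAlg2.normRed A))).IsMaximal :=
          Ideal.isMaximal_comap_of_isIntegral_of_isMaximal m
        exact Ideal.comap_isMaximal_of_surjective (Ideal.Quotient.mk (nilradical A)) Ideal.Quotient.mk_surjective (H := h1)
      refine ⟨fun a ha => by_contra fun hna => ?_⟩
      have h1 : a ∈ m.comap iA := by
        rw [IsLocalRing.eq_maximalIdeal ‹(m.comap iA).IsMaximal›]
        exact hna
      exact ha.ne_zero (Ideal.Quotient.eq_zero_iff_mem.mpr h1)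
    exact ringExpChar_eq_of_ringHom (ResidueField.lift ((Ideal.Quotient.mk m).comp iA))
  have hchB : ∀ (m' : Ideal (CAlg2.normRed B)) [m'.IsMaximal],
      ringExpChar (CAlg2.normRed B ⧸ m') = ringExpChar (ResidueField A) := by
    intro m' hm'
    haveI : (m'.comap N.toRingHom).IsMaximal := Ideal.comap_isMaximal_of_surjective _ N.surjective
    letI := Ideal.Quotient.field m'
    letI := Ideal.Quotient.field (m'.comap N.toRingHom)
    rw [← hch (m'.comap N.toRingHom)]
    exact ringExpChar_eq_of_ringHom (Ideal.quotientMap m' N.toRingHom le_rfl)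
  constructor
  · rintro ⟨⟨-, hloc⟩, hpi⟩
    haveI hlocB : IsLocalRing (CAlg2.normRed B) := by
      haveI : Nontrivial (CAlg2.normRed B) := N.symm.toEquiv.nontrivial
      exact IsLocalRing.of_surjective' N.toRingHom N.surjective
    have key : ∀ (m' : Ideal (CAlg2.normRed B)) [m'.IsMaximal] (c : CAlg2.normRed B),
        ∃ (n : ℕ) (a : A), iB (algebraMap A B a) - c ^ ringExpChar (ResidueField A) ^ n ∈ m' := by
      intro m' hm' c
      haveI : (m'.comap N.toRingHom).IsMaximal := Ideal.comap_isMaximal_of_surjective _ N.surjective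
      obtain ⟨n, a, ha⟩ := hpi (m'.comap N.toRingHom) (Ideal.Quotient.mk _ (N.symm c))
      rw [hch, ← map_pow, RingHom.comp_apply, Ideal.Quotient.eq, Ideal.mem_comap] at ha
      refine ⟨n, a, ?_⟩
      have e : N (iA a) = iB (algebraMap A B a) := hN a
      have ha' : N (iA a - N.symm c ^ ringExpChar (ResidueField A) ^ n) ∈ m' := ha
      rwa [map_sub, map_pow, N.apply_symm_apply, e] at ha'
    refine ⟨⟨⟨hdB, hlocB⟩, fun m' hm' x => ?_⟩, fun b => ?_⟩
    · obtain ⟨c, rfl⟩ := Ideal.Quotient.mk_surjective x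
      obtain ⟨n, a, ha⟩ := key m' c
      refine ⟨n, algebraMap A B a, ?_⟩
      rw [hchB, ← map_pow]
      exact Ideal.Quotient.eq.mpr ha
    · obtain ⟨n, a, ha⟩ := key (maximalIdeal _) (iB b)
      refine ⟨n, a, (hiB (maximalIdeal (CAlg2.normRed B)) (IsLocalRing.maximalIdeal.isMaximal _) _).mp ?_⟩
      rw [map_sub, map_pow]
      exact ha
  · rintro ⟨⟨⟨-, hloc⟩, hpi⟩, hres⟩
    haveI hlocA : IsLocalRing (CAlg2.normRed A) := by
      haveI : Nontrivial (CAlg2.normRed A) := N.toEquiv.nontrivial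
      exact IsLocalRing.of_surjective' N.symm.toRingHom N.symm.surjective
    refine ⟨⟨hdA, hlocA⟩, fun m hm x => ?_⟩
    obtain ⟨c, rfl⟩ := Ideal.Quotient.mk_surjective x
    let m' := m.comap N.symm.toRingHom
    haveI : m'.IsMaximal := Ideal.comap_isMaximal_of_surjective _ N.symm.surjective
    obtain ⟨n, b, hb⟩ := hpi m' (Ideal.Quotient.mk _ (N c))
    rw [hchB, ← map_pow, RingHom.comp_apply, Ideal.Quotient.eq] at hb
    have hb' : iB b - N c ^ ringExpChar (ResidueField A) ^ n ∈ m' := hb
    obtain ⟨k, a, ha⟩ := hres b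
    refine ⟨n + k, a, ?_⟩
    rw [hch, ← map_pow]
    refine Ideal.Quotient.eq.mpr ?_
    let π : CAlg2.normRed B →+* CAlg2.normRed B ⧸ m' := Ideal.Quotient.mk m'
    have hb'' : π (iB b) = π (N c) ^ ringExpChar (ResidueField A) ^ n := by
      rw [← map_pow]; exact Ideal.Quotient.eq.mpr hb'
    have hmem : iB (algebraMap A B a) - N c ^ ringExpChar (ResidueField A) ^ (n + k) ∈ m' := by
      have h1 : π (iB (algebraMap A B a - b ^ ringExpChar (ResidueField A) ^ k)) = 0 :=
        Ideal.Quotient.eq_zero_iff_mem.mpr ((hiB m' inferInstance _).mpr ha)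
      rw [map_sub, map_sub, map_pow, map_pow, hb'', ← pow_mul, ← pow_add, sub_eq_zero] at h1
      exact Ideal.Quotient.eq.mp (h1.trans (map_pow π _ _).symm)
    have h3 : N.symm (iB (algebraMap A B a) - N c ^ ringExpChar (ResidueField A) ^ (n + k)) ∈ m := hmem
    rw [map_sub, map_pow, N.symm_apply_apply, show N.symm (iB (algebraMap A B a)) = iA a from
      N.injective ((N.apply_symm_apply _).trans (hN a).symm)] at h3
    exact h3

omit [IsLocalRing B] [IsLocalHom (algebraMap A B)] in
/-- Over a geometrically unibranch base an integral birational algebra is local. -/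
theorem isLocalRing_of_isGeomUnibranch (h : BiratHyp A B) (hA : CAlg2.IsGeomUnibranch A) : IsLocalRing B := by
  haveI := hA.1.2
  obtain ⟨-, hdB, N, -⟩ := exists_normRed_equiv h ((Ideal.Quotient.isDomain_iff_prime _).mp hA.1.1)
  haveI hlocB : IsLocalRing (CAlg2.normRed B) := by
    haveI : Nontrivial (CAlg2.normRed B) := N.symm.toEquiv.nontrivial
    exact IsLocalRing.of_surjective' N.toRingHom N.surjective
  obtain ⟨-, hnt⟩ : True ∧ Nontrivial B :=
    ⟨trivial, (Ideal.Quotient.mk (nilradical B)).domain_nontrivial⟩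
  refine IsLocalRing.of_unique_max_ideal ?_
  let iB : B →+* CAlg2.normRed B := (algebraMap (CAlg2.red B) _).comp (Ideal.Quotient.mk _)
  refine ⟨(maximalIdeal (CAlg2.normRed B)).comap iB, ?_, fun M hM => ?_⟩
  · have h1 : ((maximalIdeal (CAlg2.normRed B)).comap (algebraMap (CAlg2.red B) (CAlg2.normRed B))).IsMaximal :=
      Ideal.isMaximal_comap_of_isIntegral_of_isMaximal _
    exact Ideal.comap_isMaximal_of_surjective (Ideal.Quotient.mk (nilradical B)) Ideal.Quotient.mk_surjective (H := h1)
  · haveI := hM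
    have hle : nilradical B ≤ M := nilradical_le_prime M
    let M₀ := M.map (Ideal.Quotient.mk (nilradical B))
    haveI : M₀.IsMaximal := Ideal.IsMaximal.map_of_surjective_of_ker_le Ideal.Quotient.mk_surjective
      (by rwa [Ideal.mk_ker])
    have hinj : RingHom.ker (algebraMap (CAlg2.red B) (CAlg2.normRed B)) ≤ M₀ := by
      rw [(RingHom.injective_iff_ker_eq_bot _).mp fun x y hxy => IsFractionRing.injective (CAlg2.red B)
        (FractionRing (CAlg2.red B)) (congrArg Subtype.val hxy)]
      exact bot_le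
    obtain ⟨M', hM', hM'c⟩ := Ideal.exists_ideal_over_maximal_of_isIntegral (S := CAlg2.normRed B) M₀ hinj
    rw [← IsLocalRing.eq_maximalIdeal hM', ← Ideal.comap_comap, hM'c]
    rw [Ideal.comap_map_of_surjective _ Ideal.Quotient.mk_surjective, ← RingHom.ker_eq_comap_bot, Ideal.mk_ker]
    exact (sup_eq_left.mpr hle).symm

end Groth.Agent.H06RadPt
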